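/-
What is to be checked for G2(4) on its 416 blocks and for its double cover.
-/
import Cfsg.Agent.Lib.G24Mult.GroupData
import Cfsg.Agent.Lib.G24Mult.CoverData

set_option autoImplicit false

namespace CfsgLib.G24Mult

open CfsgPC Cfsg.Lie
open CfsgLib.G24 (K wordMat rowsMat)

/-- An entry of a list cut in pieces of 32. -/
def get2 (L : List (List ℕ)) (i : ℕ) : ℕ := (L.getD (i / 32) []).getD (i % 32) 0

/-- An element of the field from its code. -/
def el : ℕ → K
  | 0 => .o
  | 1 => .i
  | 2 => .w
  | _ => .v

/-- The code of an element of the field. -/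
def code : K → ℕ
  | .o => 0
  | .i => 1
  | .w => 2
  | .v => 3

/-- A vector from its code. -/
def vec (x : ℕ) : Fin 6 → K := fun a => el ((x >>> (2 * a.val)) % 4)

/-- The code of a vector. -/
def encV (v : Fin 6 → K) : ℕ :=
  code (v 0) + 4 * code (v 1) + 16 * code (v 2) + 64 * code (v 3) + 256 * code (v 4) + 1024 * code (v 5)

def pt (k : ℕ) : ℕ := get2 pts k

def mask (i : ℕ) : ℕ := masks.getD i 0

/-- The matrix of a generator. -/
def genMat (j : ℕ) : Matrix (Fin 6) (Fin 6) K := rowsMat ((genMats.getD j []).map fun r => r.map el)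

def ptImg (j k : ℕ) : ℕ := get2 (ptImgs.getD j []) k

def ptBack (j k : ℕ) : ℕ := get2 (ptPre.getD j []) k

def fac (j k : ℕ) : ℕ := get2 (facs.getD j []) k

/-- The image of one vector. -/
def imgB (j k : ℕ) : Bool :=
  Nat.blt (ptImg j k) 1365 && Nat.blt (ptBack j k) 1365 && Nat.beq (ptImg j (ptBack j k)) k &&
    Nat.blt 0 (fac j k) && Nat.blt (fac j k) 4 &&
    (List.finRange 6).all fun a => decide ((genMat j).mulVec (vec (pt k)) a = el (fac j k) * vec (pt (ptImg j k)) a)

/-- The table finds a point from each of its multiples. -/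
def lookB (k : ℕ) : Bool :=
  [1, 2, 3].all fun c => Nat.beq (get2 lookup (encV fun a => el c * vec (pt k) a)) k

/-- The generators carry blocks to blocks. -/
def blockB (j i : ℕ) : Bool :=
  ((ptImgs.getD j []).flatten.zipIdx).all fun e =>
    (mask i).testBit e.2 == (mask (ap (gens.getD j (0, 0)).1 i)).testBit e.1

/-- Row `i`, column `k` of a matrix over the field with three elements. -/
def ent (A i k : ℕ) : ℕ := (A >>> (2 * (12 * i + k))) % 4

/-- An entry of a product. -/
def dot (A B i j : ℕ) : ℕ :=
  ent A i 0 * ent B 0 j + ent A i 1 * ent B 1 j + ent A i 2 * ent B 2 j + ent A i 3 * ent B 3 j +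
  ent A i 4 * ent B 4 j + ent A i 5 * ent B 5 j + ent A i 6 * ent B 6 j + ent A i 7 * ent B 7 j +
  ent A i 8 * ent B 8 j + ent A i 9 * ent B 9 j + ent A i 10 * ent B 10 j + ent A i 11 * ent B 11 j

/-- Two products are equal. -/
def eqMul (A B C D : ℕ) : Bool :=
  (List.range 12).all fun i => (List.range 12).all fun j => Nat.beq (dot A B i j % 3) (dot C D i j % 3)

/-- The unit and its negative. -/
def idM : ℕ := ((List.range 12).map fun i => 1 <<< (2 * (13 * i))).sum

def negM : ℕ := 2 * idM

def lift (j : ℕ) : ℕ := liftMats.getD j 0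

def str (i : ℕ) : ℕ := structs.getD i 0

def prodC (m : ℕ) : ℕ := prods.getD m 0

/-- A product comes from an earlier one. -/
def partB (m : ℕ) : Bool :=
  let e := prodParts.getD m (0, 0)
  Nat.blt e.2 416 && Nat.ble e.1 m &&
    (if Nat.beq e.1 0 then eqMul (prodC m) idM (str e.2) idM else eqMul (prodC m) idM (prodC (e.1 - 1)) (str e.2))

/-- The places of the matrix units wanted. -/
def targets : List (ℕ × ℕ) := [(0, 1), (0, 2), (0, 3), (0, 4), (0, 5), (0, 6), (0, 7), (0, 8), (0, 9), (0, 10), (0, 11), (1, 0)]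

/-- A matrix unit is a combination of the products. -/
def comboB (t : ℕ) : Bool :=
  let l := unitCombos.getD t []
  l.all (fun e => Nat.blt e.2 prods.length) &&
    (List.range 12).all fun i => (List.range 12).all fun j =>
      Nat.beq ((l.map fun e => e.1 * ent (prodC e.2) i j).sum % 3)
        (if Nat.beq i (targets.getD t (0, 0)).1 && Nat.beq j (targets.getD t (0, 0)).2 then 1 else 0)

end CfsgLib.G24Mult
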