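/-
Kernel check: generator 1 carries the blocks from 312 on to blocks.
-/
import Cfsg.Agent.Lib.G24Mult.Defs

set_option autoImplicit false
set_option maxRecDepth 100000
set_option maxHeartbeats 4000000

namespace CfsgLib.G24Mult

theorem blocks13 : ((List.range 104).all fun i => blockB 1 (312 + i)) = true := by decide +kernel

end CfsgLib.G24Mult
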