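/-
Kernel checks for the stabiliser chain of G2(4) on 416 blocks.
-/
import Cfsg.Agent.Lib.G24Mult.GroupData

set_option autoImplicit false
set_option maxRecDepth 100000
set_option maxHeartbeats 4000000

namespace CfsgLib.G24Mult

open CfsgPC

theorem chain_shape : shapeOK 416 chain (gens.map Prod.fst) = true ∧
    (chain.map fun L => L.tr.length) = [416, 315, 10, 16, 12] ∧ sizeOfChain chain = 251596800 := by decide +kernel

theorem chain_entries0a : entriesOK 416 chain (gens.map Prod.fst) 0 0 140 = true := by decide +kernel

theorem chain_entries0b : entriesOK 416 chain (gens.map Prod.fst) 0 140 280 = true := by decide +kernel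

theorem chain_entries0c : entriesOK 416 chain (gens.map Prod.fst) 0 280 416 = true := by decide +kernel

theorem chain_entries1a : entriesOK 416 chain (gens.map Prod.fst) 1 0 160 = true := by decide +kernel

theorem chain_entries1b : entriesOK 416 chain (gens.map Prod.fst) 1 160 315 = true := by decide +kernel

theorem chain_entries2 : entriesOK 416 chain (gens.map Prod.fst) 2 0 10 = true := by decide +kernel

theorem chain_entries3 : entriesOK 416 chain (gens.map Prod.fst) 3 0 16 = true := by decide +kernel

theorem chain_entries4 : entriesOK 416 chain (gens.map Prod.fst) 4 0 12 = true := by decide +kernel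

end CfsgLib.G24Mult
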