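/-
Kernel checks for the double cover of G2(4).
-/
import Cfsg.Agent.Lib.G24Mult.Defs

set_option autoImplicit false
set_option maxRecDepth 100000
set_option maxHeartbeats 4000000

namespace CfsgLib.G24Mult

open CfsgPC

theorem lift_inv : ((List.range 2).all fun j => eqMul (lift j) (liftInvs.getD j 0) idM idM &&
    eqMul (liftInvs.getD j 0) (lift j) idM idM) = true := by decide +kernel

theorem lift_sq : eqMul (lift 0) (lift 0) negM idM = true ∧
    ((List.range 416).all fun i => Nat.beq (ap (gens.getD 0 (0, 0)).1 (ap (gens.getD 0 (0, 0)).1 i)) i) = true := by
  decide +kernel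

theorem str0a : ((List.range 208).all fun i =>
    eqMul (lift 0) (str i) (str (ap (gens.getD 0 (0, 0)).1 i)) (lift 0)) = true := by decide +kernel

theorem str0b : ((List.range 208).all fun i =>
    eqMul (lift 0) (str (208 + i)) (str (ap (gens.getD 0 (0, 0)).1 (208 + i))) (lift 0)) = true := by decide +kernel

theorem str1a : ((List.range 208).all fun i =>
    eqMul (lift 1) (str i) (str (ap (gens.getD 1 (0, 0)).1 i)) (lift 1)) = true := by decide +kernel

theorem str1b : ((List.range 208).all fun i =>
    eqMul (lift 1) (str (208 + i)) (str (ap (gens.getD 1 (0, 0)).1 (208 + i))) (lift 1)) = true := by decide +kernel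

theorem parts_ok : ((List.range prods.length).all partB) = true := by decide +kernel

theorem combos_ok : ((List.range 12).all comboB) = true := by decide +kernel

theorem units_entries : ((List.range 12).all fun i => (List.range 12).all fun j =>
    Nat.beq (ent idM i j) (if Nat.beq i j then 1 else 0) &&
      Nat.beq (ent negM i j) (if Nat.beq i j then 2 else 0)) = true := by decide +kernel

end CfsgLib.G24Mult
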