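/-
Kernel check: the two readings of the tables of point images agree.
-/
import Cfsg.Agent.Lib.G24Mult.Defs

set_option autoImplicit false
set_option maxRecDepth 100000
set_option maxHeartbeats 4000000

namespace CfsgLib.G24Mult

theorem flat_ok : ((List.range 2).all fun j =>
    (ptImgs.getD j []).flatten == (List.range 1365).map (ptImg j)) = true := by decide +kernel

end CfsgLib.G24Mult
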