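/-
Kernel checks for G2(4) on 416 blocks.
-/
import Cfsg.Agent.Lib.G24Mult.Defs

set_option autoImplicit false
set_option maxRecDepth 100000
set_option maxHeartbeats 4000000

namespace CfsgLib.G24Mult

open CfsgPC Cfsg.Lie

theorem gens_ok : (gens.all fun c => isPerm 416 c.1 c.2) = true ∧ gens.length = 2 := by decide +kernel

theorem words_ok : ∀ j : Fin 2, G24.wordMat (genWords.getD j []) = genMat j := by decide +kernel

theorem pts_ok : ((List.range 1365).all lookB) = true := by decide +kernel

theorem vec_code : ∀ a : CfsgLib.G24.K, el (code a) = a := by decide +kernel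

theorem masks_ok : ((List.range 416).all fun i => Nat.blt (mask i) (2 ^ 1365) &&
      Nat.blt (blockPlaces.getD i 0) 416 && Nat.beq (blocksSorted.getD (blockPlaces.getD i 0) 0) i) = true ∧
    ((List.range 415).all fun k => Nat.blt (mask (blocksSorted.getD k 0)) (mask (blocksSorted.getD (k + 1) 0))) = true ∧
    ((List.range 2).all fun j => Nat.beq (ptImgs.getD j []).flatten.length 1365) = true := by decide +kernel

theorem imgs_ok0 : ((List.range 1365).all (imgB 0)) = true := by decide +kernel

theorem imgs_ok1 : ((List.range 1365).all (imgB 1)) = true := by decide +kernel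

end CfsgLib.G24Mult
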