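/-
G2(4) as the group of permutations of 416 blocks of 525 points.
-/
import Cfsg.Agent.Lib.G24Mult.GroupChecks
import Cfsg.Agent.Lib.G24Mult.FlatChecks
import Cfsg.Agent.Lib.G24Mult.ChainChecks
import Cfsg.Agent.Lib.G24Mult.BlockChecks00
import Cfsg.Agent.Lib.G24Mult.BlockChecks01
import Cfsg.Agent.Lib.G24Mult.BlockChecks02
import Cfsg.Agent.Lib.G24Mult.BlockChecks03
import Cfsg.Agent.Lib.G24Mult.BlockChecks10
import Cfsg.Agent.Lib.G24Mult.BlockChecks11
import Cfsg.Agent.Lib.G24Mult.BlockChecks12
import Cfsg.Agent.Lib.G24Mult.BlockChecks13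
import Cfsg.Agent.Lib.G24.Ext
import Cfsg.Agent.Lib.PermChain.Model
import Cfsg.Agent.S1055

set_option autoImplicit false
set_option maxRecDepth 30000
set_option linter.unusedSectionVars false
set_option linter.style.haveILetI false

namespace CfsgLib.G24Mult

open Equiv CfsgPC Cfsg.Lie
open CfsgLib.G24 (K rep word_mem card_group finite_group)
open scoped Matrix

attribute [local irreducible] chain gens pts lookup ptImgs ptPre facs masks genMats genWords blocksSorted blockPlaces

/-- G2(4) on 416 blocks. -/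
abbrev SmallG := ↥(genG 416 (gens.map Prod.fst))

theorem small_valid : Valid 416 (gens.map Prod.fst) := fun c hc => by
  obtain ⟨d, hd, rfl⟩ := List.mem_map.mp hc
  exact ⟨_, decP_rep (List.all_eq_true.mp gens_ok.1 d hd)⟩

theorem small_table : TableOK 416 chain (gens.map Prod.fst) := by
  obtain ⟨hs, hlens, -⟩ := chain_shape
  refine tableOK_of_checks hs fun j hj k hk => ?_
  have hk' : k < [416, 315, 10, 16, 12].getD j 0 := by
    rw [← hlens, List.getD_eq_getElem _ _ (by simpa using hj), List.getElem_map]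
    rwa [List.getD_eq_getElem _ _ hj] at hk
  have hl : chain.length = 5 := by simpa using congrArg List.length hlens
  rw [hl] at hj
  clear hk
  interval_cases j
  · replace hk' : k < 416 := hk'
    by_cases h1 : k < 140
    · exact of_entriesOK chain_entries0a (Nat.zero_le _) h1
    by_cases h2 : k < 280
    · exact of_entriesOK chain_entries0b (by omega) h2
    exact of_entriesOK chain_entries0c (by omega) hk'
  · replace hk' : k < 315 := hk'
    by_cases h1 : k < 160
    · exact of_entriesOK chain_entries1a (Nat.zero_le _) h1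
    exact of_entriesOK chain_entries1b (by omega) hk'
  · exact of_entriesOK chain_entries2 (Nat.zero_le _) hk'
  · exact of_entriesOK chain_entries3 (Nat.zero_le _) hk'
  · exact of_entriesOK chain_entries4 (Nat.zero_le _) hk'

theorem el_code_cases {c : K} (hc : c ≠ 0) : ∃ n ∈ [1, 2, 3], el n = c := by
  cases c
  · exact absurd rfl hc
  · exact ⟨1, by simp, rfl⟩
  · exact ⟨2, by simp, rfl⟩
  · exact ⟨3, by simp, rfl⟩

/-- The table recovers a point from any multiple. -/
theorem look {k : ℕ} (hk : k < 1365) {c : K} (hc : c ≠ 0) : get2 lookup (encV fun a => c * vec (pt k) a) = k := by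
  obtain ⟨n, hn, rfl⟩ := el_code_cases hc
  exact Nat.eq_of_beq_eq_true (List.all_eq_true.mp (List.all_eq_true.mp pts_ok k (List.mem_range.mpr hk)) n hn)

/-- The vectors of a block. -/
def block (i : Fin 416) : Set (Fin 6 → K) :=
  {v | ∃ k < 1365, (mask i).testBit k = true ∧ ∃ c : K, c ≠ 0 ∧ v = fun a => c * vec (pt k) a}

theorem block_mem {i : Fin 416} {k : ℕ} (hk : k < 1365) :
    vec (pt k) ∈ block i ↔ (mask i).testBit k = true := by
  refine ⟨?_, fun h => ⟨k, hk, h, 1, one_ne_zero, funext fun a => (one_mul _).symm⟩⟩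
  rintro ⟨k', hk', hb, c, hc, e⟩
  have h1 := look hk (c := 1) one_ne_zero
  simp only [one_mul] at h1
  have h2 := look hk' hc
  rw [← e, h1] at h2
  rwa [h2]

theorem mask_lt (i : Fin 416) : mask i < 2 ^ 1365 := by
  have h := List.all_eq_true.mp masks_ok.1 i (List.mem_range.mpr i.2)
  simp only [Bool.and_eq_true, Nat.blt_eq] at h
  exact h.1.1

theorem mask_inj {i k : Fin 416} (h : mask i = mask k) : i = k := by
  obtain ⟨hp, hs, -⟩ := masks_ok
  simp only [List.all_eq_true, List.mem_range, Bool.and_eq_true, Nat.blt_eq] at hp hs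
  have hmono : ∀ d a, a + d + 1 < 416 →
      mask (blocksSorted.getD a 0) < mask (blocksSorted.getD (a + d + 1) 0) := by
    intro d
    induction d with
    | zero => exact fun a ha => hs a (by omega)
    | succ d ih => exact fun a ha => (ih a (by omega)).trans (hs (a + d + 1) (by omega))
  obtain ⟨⟨-, pi⟩, ei⟩ := hp i i.2
  obtain ⟨⟨-, pk⟩, ek⟩ := hp k k.2
  rw [← Nat.eq_of_beq_eq_true ei, ← Nat.eq_of_beq_eq_true ek] at h
  refine Fin.ext ?_
  rw [← Nat.eq_of_beq_eq_true ei, ← Nat.eq_of_beq_eq_true ek]
  congr 1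
  rcases lt_trichotomy (blockPlaces.getD i 0) (blockPlaces.getD k 0) with hlt | heq | hgt
  · have := hmono (blockPlaces.getD k 0 - blockPlaces.getD i 0 - 1) (blockPlaces.getD i 0) (by omega)
    rw [show blockPlaces.getD i 0 + (blockPlaces.getD k 0 - blockPlaces.getD i 0 - 1) + 1 = blockPlaces.getD k 0 by omega] at this
    omega
  · exact heq
  · have := hmono (blockPlaces.getD i 0 - blockPlaces.getD k 0 - 1) (blockPlaces.getD k 0) (by omega)
    rw [show blockPlaces.getD k 0 + (blockPlaces.getD i 0 - blockPlaces.getD k 0 - 1) + 1 = blockPlaces.getD i 0 by omega] at this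
    omega

theorem block_injective : Function.Injective block := by
  intro i k h
  refine mask_inj (Nat.eq_of_testBit_eq fun t => ?_)
  by_cases ht : t < 1365
  · rw [Bool.eq_iff_iff, ← block_mem ht, ← block_mem ht, h]
  · have hp : (2 : ℕ) ^ 1365 ≤ 2 ^ t := Nat.pow_le_pow_right (by norm_num) (by omega)
    rw [Nat.testBit_lt_two_pow ((mask_lt i).trans_le hp), Nat.testBit_lt_two_pow ((mask_lt k).trans_le hp)]

/-- The action on sets of vectors. -/
@[reducible] noncomputable def setAction : MulAction ↥(chevG2.group K) (Set (Fin 6 → K)) where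
  smul g s := (fun v => (rep g : Matrix (Fin 6) (Fin 6) K) *ᵥ v) '' s
  one_smul s := by
    show (fun v => (rep 1 : Matrix (Fin 6) (Fin 6) K) *ᵥ v) '' s = s
    simp
  mul_smul g h s := by
    show (fun v => (rep (g * h) : Matrix (Fin 6) (Fin 6) K) *ᵥ v) '' s =
      (fun v => (rep g : Matrix (Fin 6) (Fin 6) K) *ᵥ v) '' ((fun v => (rep h : Matrix (Fin 6) (Fin 6) K) *ᵥ v) '' s)
    rw [Set.image_image]
    simp [Matrix.mulVec_mulVec]

theorem img_facts {j : ℕ} (hj : j < 2) {k : ℕ} (hk : k < 1365) :
    ptImg j k < 1365 ∧ ptBack j k < 1365 ∧ ptImg j (ptBack j k) = k ∧ el (fac j k) ≠ 0 ∧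
      genMat j *ᵥ vec (pt k) = fun a => el (fac j k) * vec (pt (ptImg j k)) a := by
  have h : imgB j k = true := by
    interval_cases j
    · exact List.all_eq_true.mp imgs_ok0 k (List.mem_range.mpr hk)
    · exact List.all_eq_true.mp imgs_ok1 k (List.mem_range.mpr hk)
  simp only [imgB, Bool.and_eq_true, Nat.blt_eq, List.all_eq_true, decide_eq_true_eq] at h
  obtain ⟨⟨⟨⟨⟨h1, h2⟩, h3⟩, h4⟩, h5⟩, h6⟩ := h
  refine ⟨h1, h2, Nat.eq_of_beq_eq_true h3, ?_, funext fun a => h6 a (List.mem_finRange a)⟩
  generalize fac j k = n at h4 h5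
  interval_cases n <;> decide

theorem block_bit {j : ℕ} (hj : j < 2) {i : ℕ} (hi : i < 416) {k : ℕ} (hk : k < 1365) :
    (mask i).testBit k = (mask (ap (gens.getD j (0, 0)).1 i)).testBit (ptImg j k) := by
  have hb : blockB j i = true := by
    have key : ∀ {a : ℕ}, a ≤ i → i < a + 104 → ((List.range 104).all fun x => blockB j (a + x)) = true →
        blockB j i = true := fun {a} h1 h2 h => by
      have := List.all_eq_true.mp h (i - a) (List.mem_range.mpr (by omega))
      rwa [show a + (i - a) = i by omega] at this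
    interval_cases j
    · by_cases h1 : i < 104
      · exact key (Nat.zero_le _) (by omega) blocks00
      by_cases h2 : i < 208
      · exact key (by omega) (by omega) blocks01
      by_cases h3 : i < 312
      · exact key (by omega) (by omega) blocks02
      exact key (by omega) (by omega) blocks03
    · by_cases h1 : i < 104
      · exact key (Nat.zero_le _) (by omega) blocks10
      by_cases h2 : i < 208
      · exact key (by omega) (by omega) blocks11
      by_cases h3 : i < 312
      · exact key (by omega) (by omega) blocks12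
      exact key (by omega) (by omega) blocks13
  have hf : (ptImgs.getD j []).flatten = (List.range 1365).map (ptImg j) :=
    eq_of_beq (List.all_eq_true.mp flat_ok j (List.mem_range.mpr hj))
  rw [blockB, hf, List.all_eq_true] at hb
  have hmem : ((ptImg j k), k) ∈ ((List.range 1365).map (ptImg j)).zipIdx :=
    List.mem_zipIdx_iff_getElem?.mpr (by simp [hk])
  exact eq_of_beq (hb _ hmem)

theorem block_image {j : ℕ} (hj : j < 2) {g : ↥(chevG2.group K)}
    (hg : (rep g : Matrix (Fin 6) (Fin 6) K) = genMat j) {i : Fin 416} {p : Perm (Fin 416)}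
    (hp : Rep 416 (gens.getD j (0, 0)).1 p) :
    (fun v => (rep g : Matrix (Fin 6) (Fin 6) K) *ᵥ v) '' block i = block (p i) := by
  have hsm : ∀ (c : K) (u : Fin 6 → K), genMat j *ᵥ (fun a => c * u a) = fun a => c * (genMat j *ᵥ u) a := fun c u => by
    rw [show (fun a => c * u a) = c • u from rfl, Matrix.mulVec_smul]
    rfl
  ext v
  rw [Set.mem_image]
  constructor
  · rintro ⟨_, ⟨k, hk, hb, c, hc, rfl⟩, rfl⟩
    obtain ⟨h1, -, -, hf, he⟩ := img_facts hj hk
    refine ⟨ptImg j k, h1, ?_, c * el (fac j k), mul_ne_zero hc hf, ?_⟩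
    · rwa [← hp i, ← block_bit hj i.2 hk]
    · rw [hg, hsm, he]
      funext a
      exact (mul_assoc _ _ _).symm
  · rintro ⟨k, hk, hb, c, hc, rfl⟩
    obtain ⟨-, h2, h3, -, -⟩ := img_facts hj hk
    obtain ⟨-, -, -, hf, he⟩ := img_facts hj h2
    refine ⟨fun a => c * (el (fac j (ptBack j k)))⁻¹ * vec (pt (ptBack j k)) a,
      ⟨ptBack j k, h2, ?_, _, mul_ne_zero hc (inv_ne_zero hf), rfl⟩, ?_⟩
    · rw [block_bit hj i.2 h2, h3, hp i]
      exact hb
    · rw [hg, hsm, he, h3]
      funext a
      rw [← mul_assoc, mul_assoc c, inv_mul_cancel₀ hf, mul_one]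

theorem small_model : prodSet 416 chain = genG 416 (gens.map Prod.fst) ∧ Nat.card SmallG = 251596800 ∧
    Nonempty (↥(chevG2.group K) ≃* SmallG) := by
  letI := setAction
  obtain ⟨-, -, hsize⟩ := chain_shape
  have hg : ∀ c ∈ gens.map Prod.fst, ∃ g : ↥(chevG2.group K), ∃ p : Perm (Fin 416), Rep 416 c p ∧
      ∀ i, g • block i = block (p i) := by
    intro c hc
    obtain ⟨j, hj, rfl⟩ := List.getElem_of_mem hc
    rw [List.length_map] at hj
    rw [List.getElem_map]
    have hj2 : j < 2 := gens_ok.2 ▸ hj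
    obtain ⟨p, hp⟩ := small_valid _ (List.mem_map.mpr ⟨_, List.getElem_mem hj, rfl⟩)
    obtain ⟨g, hg⟩ := word_mem (genWords.getD j [])
    rw [words_ok ⟨j, hj2⟩] at hg
    refine ⟨g, p, hp, fun i => block_image hj2 hg ?_⟩
    rw [List.getD_eq_getElem (l := gens) _ hj]
    exact hp
  have hgc : Nat.card ↥(chevG2.group K) = 251596800 := by rw [card_group]; norm_num
  have hle : Nat.card ↥(chevG2.group K) ≤ Nat.card SmallG := by
    obtain ⟨hsub, hc⟩ := table_products (by norm_num) small_table small_valid
    rw [hgc, ← hsize, ← hc, ← Nat.card_coe_set_eq]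
    exact Nat.card_mono (Set.toFinite _) hsub
  haveI := finite_group
  obtain ⟨e⟩ := exists_model block_injective hg hle
  have hcard : Nat.card SmallG = 251596800 := (Nat.card_congr e.toEquiv).symm.trans hgc
  exact ⟨(table_eq (by norm_num) small_table small_valid (by rw [hcard, hsize])).1, hcard, ⟨e⟩⟩

theorem small_perfect : commutator SmallG = ⊤ := by
  obtain ⟨-, -, ⟨e⟩⟩ := small_model
  obtain ⟨hs, hn⟩ := Cfsg.Agent.S1055.result (F := K) ⟨.w, by decide, by decide⟩
  have h : commutator ↥(chevG2.group K) = ⊤ := by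
    refine ((commutator ↥(chevG2.group K)).normal_of_characteristic.eq_bot_or_eq_top).resolve_left
      fun h => hn ⟨⟨fun a b => ?_⟩⟩
    have := Subgroup.commutator_mem_commutator (Subgroup.mem_top a) (Subgroup.mem_top b)
    rw [← _root_.commutator_def, h, Subgroup.mem_bot, commutatorElement_eq_one_iff_mul_comm] at this
    exact this
  have hsurj : Function.Surjective e.toMonoidHom := e.surjective
  rw [_root_.commutator_def, ← Subgroup.map_top_of_surjective _ hsurj, ← Subgroup.map_commutator,
    ← _root_.commutator_def, h]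

end CfsgLib.G24Mult
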