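/-
The double cover of G2(4): pairs of a permutation of the blocks and a matrix of size twelve over the field with
three elements carrying the complex structure of each block to that of its image.
-/
import Cfsg.Agent.Lib.G24Mult.Group
import Cfsg.Agent.Lib.G24Mult.CoverChecks
import Cfsg.Prelude.Def_KGroupFacts

set_option autoImplicit false
set_option maxRecDepth 30000
set_option linter.unusedSectionVars false
set_option linter.style.haveILetI false

namespace CfsgLib.G24Mult

open Equiv CfsgPC Subgroup
open scoped Matrix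

attribute [local irreducible] chain gens liftMats liftInvs structs prods prodParts unitCombos

abbrev Mat := Matrix (Fin 12) (Fin 12) (ZMod 3)

/-- The matrix of a code. -/
def dec (A : ℕ) : Mat := Matrix.of fun i j => (ent A i j : ZMod 3)

theorem dec_mul (A B : ℕ) (i j : Fin 12) : (dec A * dec B) i j = (dot A B i j : ZMod 3) := by
  simp [Matrix.mul_apply, dec, dot, Fin.sum_univ_succ]
  abel

theorem dec_eqMul {A B C D : ℕ} (h : eqMul A B C D = true) : dec A * dec B = dec C * dec D := by
  ext i j
  rw [dec_mul, dec_mul, ← ZMod.natCast_mod, ← ZMod.natCast_mod (dot C D i j),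
    Nat.eq_of_beq_eq_true (List.all_eq_true.mp (List.all_eq_true.mp h i (List.mem_range.mpr i.2)) j
      (List.mem_range.mpr j.2))]

theorem dec_id : dec idM = 1 := by
  ext i j
  have h := List.all_eq_true.mp (List.all_eq_true.mp units_entries i (List.mem_range.mpr i.2)) j (List.mem_range.mpr j.2)
  simp only [Bool.and_eq_true, Nat.beq_eq] at h
  show (ent idM i j : ZMod 3) = _
  rw [h.1, Matrix.one_apply]
  by_cases hij : i = j
  · subst hij; simp
  · rw [if_neg hij, if_neg fun e => hij (Fin.ext e)]
    simp

theorem dec_neg : dec negM = -1 := by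
  ext i j
  have h := List.all_eq_true.mp (List.all_eq_true.mp units_entries i (List.mem_range.mpr i.2)) j (List.mem_range.mpr j.2)
  simp only [Bool.and_eq_true, Nat.beq_eq] at h
  show (ent negM i j : ZMod 3) = _
  rw [h.2, Matrix.neg_apply, Matrix.one_apply]
  by_cases hij : i = j
  · subst hij; rw [if_pos rfl, if_pos rfl]; decide
  · rw [if_neg hij, if_neg fun e => hij (Fin.ext e)]
    simp

/-- The lift of a generator. -/
noncomputable def liftU (j : Fin 2) : GL (Fin 12) (ZMod 3) where
  val := dec (lift j)
  inv := dec (liftInvs.getD j 0)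
  val_inv := by
    have h := List.all_eq_true.mp lift_inv j (List.mem_range.mpr j.2)
    rw [Bool.and_eq_true] at h
    rw [dec_eqMul h.1, dec_id, one_mul]
  inv_val := by
    have h := List.all_eq_true.mp lift_inv j (List.mem_range.mpr j.2)
    rw [Bool.and_eq_true] at h
    rw [dec_eqMul h.2, dec_id, one_mul]

theorem gperm_rep (j : Fin 2) : Rep 416 (gens.getD j (0, 0)).1 (decP 416 (gens.getD j (0, 0)).1) := by
  have hj : (j : ℕ) < gens.length := gens_ok.2.symm ▸ j.2
  rw [List.getD_eq_getElem _ _ hj]
  exact decP_rep (List.all_eq_true.mp gens_ok.1 _ (List.getElem_mem hj))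

/-- A generator of the permutations. -/
noncomputable def gel (j : Fin 2) : SmallG :=
  ⟨decP 416 (gens.getD j (0, 0)).1, Valid.mem (by
    have hj : (j : ℕ) < gens.length := gens_ok.2.symm ▸ j.2
    rw [List.getD_eq_getElem _ _ hj]
    exact List.mem_map.mpr ⟨_, List.getElem_mem hj, rfl⟩) (gperm_rep j)⟩

/-- A pair carrying structures to structures. -/
def Good (x : SmallG × GL (Fin 12) (ZMod 3)) : Prop :=
  ∀ i : Fin 416, (x.2 : Mat) * dec (str i) = dec (str ((x.1 : Perm (Fin 416)) i)) * (x.2 : Mat)

/-- The pairs carrying structures to structures. -/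
def goodGroup : Subgroup (SmallG × GL (Fin 12) (ZMod 3)) where
  carrier := {x | Good x}
  one_mem' := fun i => by simp
  mul_mem' := by
    intro x y hx hy i
    simp only [Prod.snd_mul, Prod.fst_mul, Units.val_mul, Subgroup.coe_mul, Perm.mul_apply]
    rw [mul_assoc, hy i, ← mul_assoc, hx, mul_assoc]
  inv_mem' := by
    intro x hx i
    have h := hx ((x.1 : Perm (Fin 416)).symm i)
    rw [Equiv.apply_symm_apply] at h
    simp only [Prod.snd_inv, Prod.fst_inv, InvMemClass.coe_inv, Perm.inv_def]
    rw [Units.inv_mul_eq_iff_eq_mul, ← mul_assoc, h, mul_assoc, Units.mul_inv, mul_one]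

theorem gen_good (j : Fin 2) : Good (gel j, liftU j) := by
  intro i
  have key : eqMul (lift j) (str i) (str (ap (gens.getD j (0, 0)).1 i)) (lift j) = true := by
    by_cases h : (i : ℕ) < 208
    · have hi := List.mem_range.mpr h
      fin_cases j
      · exact List.all_eq_true.mp str0a _ hi
      · exact List.all_eq_true.mp str1a _ hi
    · have hi : (i : ℕ) - 208 ∈ List.range 208 := List.mem_range.mpr (by omega)
      have hadd : 208 + ((i : ℕ) - 208) = i := by omega
      fin_cases j
      · have := List.all_eq_true.mp str0b _ hi; rwa [hadd] at this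
      · have := List.all_eq_true.mp str1b _ hi; rwa [hadd] at this
  rw [gperm_rep j i] at key
  exact dec_eqMul key

/-- The cover. -/
abbrev Cover := ↥(closure (Set.range fun j : Fin 2 => (gel j, liftU j)))

/-- The projection. -/
noncomputable def proj : Cover →* SmallG :=
  (MonoidHom.fst SmallG (GL (Fin 12) (ZMod 3))).comp (Subgroup.subtype _)

theorem cover_good (x : Cover) : Good (x : SmallG × GL (Fin 12) (ZMod 3)) :=
  (closure_le goodGroup).mpr (by rintro _ ⟨j, rfl⟩; exact gen_good j) x.2

theorem proj_surjective : Function.Surjective proj := by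
  rintro ⟨x, hx⟩
  suffices hs : x ∈ proj.range.map (genG 416 (gens.map Prod.fst)).subtype by
    obtain ⟨-, ⟨g, rfl⟩, e⟩ := hs
    exact ⟨g, Subtype.ext e⟩
  refine closure_le _ |>.mpr ?_ hx
  rintro x ⟨c, hc, hx⟩
  obtain ⟨j, hj, rfl⟩ := List.getElem_of_mem hc
  rw [List.length_map] at hj
  rw [List.getElem_map, ← List.getD_eq_getElem (d := (0, 0)) _ hj] at hx
  have hj2 : j < 2 := gens_ok.2 ▸ hj
  exact ⟨proj ⟨(gel ⟨j, hj2⟩, liftU ⟨j, hj2⟩), subset_closure ⟨⟨j, hj2⟩, rfl⟩⟩, ⟨_, rfl⟩,
    (gperm_rep ⟨j, hj2⟩).unique hx⟩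

theorem targets_lt : ∀ t < 12, (targets.getD t (0, 0)).1 < 12 ∧ (targets.getD t (0, 0)).2 < 12 := by decide

/-- A matrix commuting with all the structures is a scalar. -/
theorem scalar_of_commute {A : Mat} (h : ∀ i : Fin 416, Commute A (dec (str i))) : A = A 0 0 • (1 : Mat) := by
  have hW : ∀ m, m < prods.length → Commute A (dec (prodC m)) := by
    intro m
    induction m using Nat.strong_induction_on with
    | _ m ih =>
      intro hm
      have hp := List.all_eq_true.mp parts_ok m (List.mem_range.mpr hm)
      simp only [partB, Bool.and_eq_true, Nat.blt_eq, Nat.ble_eq] at hp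
      obtain ⟨⟨h1, h2⟩, h3⟩ := hp
      set e := prodParts.getD m (0, 0)
      by_cases h0 : Nat.beq e.1 0 = true
      · rw [if_pos h0] at h3
        have := dec_eqMul h3
        rw [dec_id, mul_one, mul_one] at this
        rw [this]
        exact h ⟨e.2, h1⟩
      · rw [if_neg h0] at h3
        have he : e.1 ≠ 0 := fun e0 => h0 (by rw [e0]; rfl)
        have := dec_eqMul h3
        rw [dec_id, mul_one] at this
        rw [this]
        exact (ih (e.1 - 1) (by omega) (by omega)).mul_right (h ⟨e.2, h1⟩)
  have hS : ∀ l : List (ℕ × ℕ), (∀ e ∈ l, e.2 < prods.length) →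
      Commute A (Matrix.of fun i j : Fin 12 => (((l.map fun e => e.1 * ent (prodC e.2) i j).sum : ℕ) : ZMod 3)) := by
    intro l
    induction l with
    | nil =>
      intro _
      have e0 : (Matrix.of fun i j : Fin 12 =>
          (((([] : List (ℕ × ℕ)).map fun e => e.1 * ent (prodC e.2) i j).sum : ℕ) : ZMod 3)) = 0 := by
        ext i j
        simp
      rw [e0]
      exact Commute.zero_right A
    | cons e l ih =>
      intro hl
      have e0 : (Matrix.of fun i j : Fin 12 =>
          ((((e :: l).map fun e => e.1 * ent (prodC e.2) i j).sum : ℕ) : ZMod 3)) = (e.1 : ZMod 3) • dec (prodC e.2) +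
          Matrix.of fun i j : Fin 12 => (((l.map fun e => e.1 * ent (prodC e.2) i j).sum : ℕ) : ZMod 3) := by
        ext i j
        simp [dec]
      rw [e0]
      exact ((hW e.2 (hl e (List.mem_cons_self ..))).smul_right (e.1 : ZMod 3)).add_right
        (ih fun x hx => hl x (List.mem_cons_of_mem _ hx))
  have hu : ∀ t : ℕ, t < 12 → ∀ p q : Fin 12, targets.getD t (0, 0) = ((p : ℕ), (q : ℕ)) → ∀ i j : Fin 12,
      (if j = q then A i p else 0) = (if i = p then A q j else 0) := by
    intro t ht p q hpq i j
    have hc := List.all_eq_true.mp combos_ok t (List.mem_range.mpr ht)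
    simp only [comboB, Bool.and_eq_true, List.all_eq_true, List.mem_range, Nat.blt_eq] at hc
    obtain ⟨hl, hc⟩ := hc
    have hE := hS (unitCombos.getD t []) hl
    have e : (Matrix.of fun a b : Fin 12 =>
        ((((unitCombos.getD t []).map fun e => e.1 * ent (prodC e.2) a b).sum : ℕ) : ZMod 3)) =
        Matrix.of fun a b => if a = p ∧ b = q then 1 else 0 := by
      ext a b
      simp only [Matrix.of_apply]
      rw [← ZMod.natCast_mod, Nat.eq_of_beq_eq_true (hc a a.2 b b.2), hpq]
      by_cases hab : a = p ∧ b = q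
      · rw [if_pos hab, if_pos ⟨by rw [hab.1, Nat.beq_refl], by rw [hab.2, Nat.beq_refl]⟩, Nat.cast_one]
      · rw [if_neg hab, if_neg ?_, Nat.cast_zero]
        exact fun hh => hab ⟨Fin.ext (Nat.eq_of_beq_eq_true hh.1), Fin.ext (Nat.eq_of_beq_eq_true hh.2)⟩
    rw [e] at hE
    have := congrFun (congrFun hE.eq i) j
    simpa [Matrix.mul_apply, ite_and] using this
  have hrow : ∀ q : Fin 12, q ≠ 0 → A q q = A 0 0 ∧ (∀ j, j ≠ q → A q j = 0) ∧ A q 0 = 0 := by
    intro q hq
    have hq0 : (q : ℕ) ≠ 0 := fun e => hq (Fin.ext e)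
    have ht : targets.getD ((q : ℕ) - 1) (0, 0) = (((0 : Fin 12) : ℕ), (q : ℕ)) := by
      revert hq0
      revert q
      decide
    have h' := hu ((q : ℕ) - 1) (by omega) 0 q ht
    refine ⟨?_, fun j hj => ?_, ?_⟩
    · have := h' 0 q; simpa using this.symm
    · have := h' 0 j; simpa [hj] using this.symm
    · have := h' q q; simpa [hq] using this
  have h10 := hu 11 (by norm_num) 1 0 rfl
  ext i j
  rw [Matrix.smul_apply, Matrix.one_apply, smul_eq_mul]
  by_cases hij : i = j
  · subst hij
    rw [if_pos rfl, mul_one]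
    by_cases hi : i = 0
    · rw [hi]
    · exact (hrow i hi).1
  · rw [if_neg hij, mul_zero]
    by_cases hi : i = 0
    · subst hi
      have := h10 1 j
      simpa [Ne.symm hij] using this.symm
    · exact (hrow i hi).2.1 j (Ne.symm hij)

theorem ker_cases {x : Cover} (hx : x ∈ proj.ker) :
    (x : SmallG × GL (Fin 12) (ZMod 3)).1 = 1 ∧
      ((x : SmallG × GL (Fin 12) (ZMod 3)).2 = 1 ∨ (x : SmallG × GL (Fin 12) (ZMod 3)).2 = -1) := by
  have h1 : (x : SmallG × GL (Fin 12) (ZMod 3)).1 = 1 := hx
  refine ⟨h1, ?_⟩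
  have hg := cover_good x
  rw [Good, h1] at hg
  set U := (x : SmallG × GL (Fin 12) (ZMod 3)).2
  have hA : (U : Mat) = (U : Mat) 0 0 • (1 : Mat) := scalar_of_commute fun i => by
    have := hg i
    show (U : Mat) * dec (str i) = dec (str i) * (U : Mat)
    simpa using this
  have hc : ∀ c : ZMod 3, c = 0 ∨ c = 1 ∨ c = -1 := by decide
  rcases hc ((U : Mat) 0 0) with h | h | h <;> rw [h] at hA
  · exfalso
    have := U.mul_inv
    rw [hA, zero_smul, zero_mul] at this
    exact zero_ne_one this
  · exact Or.inl (Units.ext (by rw [hA, one_smul, Units.val_one]))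
  · exact Or.inr (Units.ext (by rw [hA, neg_smul, one_smul, Units.val_neg, Units.val_one]))

/-- The cover is a stem extension with kernel of order two. -/
theorem cover_stem : Finite Cover ∧ Cfsg.IsStemExtension proj ∧ Nat.card proj.ker = 2 := by
  classical
  haveI : Finite Cover := inferInstance
  set g : Cover := ⟨(gel 0, liftU 0), subset_closure ⟨0, rfl⟩⟩ with hgdef
  set z : Cover := g * g with hzdef
  have hz : (z : SmallG × GL (Fin 12) (ZMod 3)) = (1, -1) := by
    refine Prod.ext (Subtype.ext (Equiv.ext fun i => ?_)) (Units.ext ?_)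
    · have h := List.all_eq_true.mp lift_sq.2 i (List.mem_range.mpr i.2)
      have hr := gperm_rep 0
      rw [show ((0 : Fin 2) : ℕ) = 0 from rfl] at hr
      rw [hr i, hr] at h
      exact Fin.ext (Nat.eq_of_beq_eq_true h)
    · show dec (lift 0) * dec (lift 0) = ((-1 : GL (Fin 12) (ZMod 3)) : Mat)
      rw [dec_eqMul lift_sq.1, dec_neg, dec_id, mul_one, Units.val_neg, Units.val_one]
  have hzk : z ∈ proj.ker := congrArg Prod.fst hz
  have hker : ∀ x ∈ proj.ker, x = 1 ∨ x = z := fun x hx => by
    obtain ⟨h1, h2 | h2⟩ := ker_cases hx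
    · exact Or.inl (Subtype.ext (Prod.ext h1 h2))
    · exact Or.inr (Subtype.ext (by rw [hz]; exact Prod.ext h1 h2))
  have hne : z ≠ 1 := fun e => by
    have h2 : ((-1 : GL (Fin 12) (ZMod 3)) : Mat) 0 0 = ((1 : GL (Fin 12) (ZMod 3)) : Mat) 0 0 := by
      have := congrArg (fun y : Cover => (((y : SmallG × GL (Fin 12) (ZMod 3)).2 : GL (Fin 12) (ZMod 3)) : Mat) 0 0) e
      simpa [hz] using this
    simp [Units.val_neg] at h2
    exact absurd h2 (by decide)
  have hzc : z ∈ center Cover := mem_center_iff.mpr fun y => Subtype.ext (by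
    show (y : SmallG × GL (Fin 12) (ZMod 3)) * z = (z : SmallG × GL (Fin 12) (ZMod 3)) * y
    rw [hz]
    refine Prod.ext (by simp) (Units.ext ?_)
    simp)
  have hz2 : z * z = 1 := Subtype.ext (by
    show (z : SmallG × GL (Fin 12) (ZMod 3)) * z = 1
    rw [hz]
    exact Prod.ext (one_mul _) (by simp))
  have hsq : ∀ x : Cover, Abelianization.of x * Abelianization.of x = 1 := fun x => by
    have hm : proj x ∈ (_root_.commutator Cover).map proj := by
      rw [_root_.commutator_def, map_commutator, map_top_of_surjective _ proj_surjective,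
        ← _root_.commutator_def, small_perfect]
      exact mem_top _
    obtain ⟨d, hd, he⟩ := hm
    have hd1 : Abelianization.of d = 1 := by
      rw [← MonoidHom.mem_ker, Abelianization.ker_of]; exact hd
    have hx : x = d * (d⁻¹ * x) := (mul_inv_cancel_left d x).symm
    have hk : d⁻¹ * x ∈ proj.ker := by simp [MonoidHom.mem_ker, he]
    rw [hx, map_mul, hd1, one_mul, ← map_mul]
    rcases hker _ hk with e | e <;> rw [e]
    · rw [one_mul, map_one]
    · rw [hz2, map_one]
  have hzm : z ∈ _root_.commutator Cover := by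
    rw [← Abelianization.ker_of, MonoidHom.mem_ker, hzdef, map_mul]
    exact hsq g
  refine ⟨inferInstance, ⟨proj_surjective, fun x hx => ?_, fun x hx => ?_⟩, ?_⟩
  · rcases hker x hx with rfl | rfl
    · exact one_mem _
    · exact hzc
  · rcases hker x hx with rfl | rfl
    · exact one_mem _
    · exact hzm
  · rw [Nat.card_eq_two_iff' (1 : proj.ker)]
    refine ⟨⟨z, hzk⟩, fun e => hne (congrArg Subtype.val e), fun y hy => ?_⟩
    rcases hker y y.2 with e | e
    · exact absurd (Subtype.ext e) hy
    · exact Subtype.ext e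

end CfsgLib.G24Mult
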