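/-
Kernel checks for the Sylow collectors of G2(4).
-/
import Cfsg.Agent.Lib.G24Mult.SylowData
import Cfsg.Agent.Lib.G24Mult.GroupData

set_option autoImplicit false
set_option maxRecDepth 100000
set_option maxHeartbeats 4000000

namespace CfsgLib.G24Mult

open CfsgPC CfsgLib.StemSylow

theorem memTwo : memOK 416 chain (gcTwo ++ tcTwo) = true ∧ (tcTwo.map Prod.fst).head? = some (idk 416) ∧
    factsB chain baseTwo.facts (gcTwo.map Prod.fst) (tcTwo.map Prod.fst) = true := by decide +kernel

theorem memThree : memOK 416 chain (gcThree ++ tcThree) = true ∧ (tcThree.map Prod.fst).head? = some (idk 416) ∧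
    factsB chain baseThree.facts (gcThree.map Prod.fst) (tcThree.map Prod.fst) = true := by decide +kernel

theorem memFive : memOK 416 chain (gcFive ++ tcFive) = true ∧ (tcFive.map Prod.fst).head? = some (idk 416) ∧
    factsB chain baseFive.facts (gcFive.map Prod.fst) (tcFive.map Prod.fst) = true := by decide +kernel

theorem subTwo_shape : shapeOK 416 subTwo (gcTwo.map Prod.fst) = true ∧
    (subTwo.map fun L => L.tr.length) = [256, 4, 4] ∧ sizeOfChain subTwo = 4096 ∧ gcTwo.length = 12 := by decide +kernel

theorem subTwo_entries : ((List.range 3).all fun j => entriesOK 416 subTwo (gcTwo.map Prod.fst) j 0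
    ([256, 4, 4].getD j 0)) = true := by decide +kernel

theorem subThree_shape : shapeOK 416 subThree (gcThree.map Prod.fst) = true ∧
    (subThree.map fun L => L.tr.length) = [27] ∧ sizeOfChain subThree = 27 ∧ gcThree.length = 3 := by decide +kernel

theorem subThree_entries : ((List.range 1).all fun j => entriesOK 416 subThree (gcThree.map Prod.fst) j 0
    ([27].getD j 0)) = true := by decide +kernel

theorem subFive_shape : shapeOK 416 subFive (gcFive.map Prod.fst) = true ∧
    (subFive.map fun L => L.tr.length) = [25] ∧ sizeOfChain subFive = 25 ∧ gcFive.length = 2 := by decide +kernel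

theorem subFive_entries : ((List.range 1).all fun j => entriesOK 416 subFive (gcFive.map Prod.fst) j 0
    ([25].getD j 0)) = true := by decide +kernel

theorem certTwo_ok : certTwo.check = true ∧ baseTwo.p = 2 ∧ baseTwo.n = 12 ∧ certTwo.q = 4 ∧ certTwo.r = 2 := by
  decide +kernel

theorem certThree_ok : baseThree.check = true ∧ baseThree.p = 3 ∧ baseThree.n = 3 := by decide +kernel

theorem certFive_ok : baseFive.check = true ∧ baseFive.p = 5 ∧ baseFive.n = 2 := by decide +kernel

theorem cyc_ok : (cycCodes.all fun d => isPerm 416 d.2.1 d.2.2 && sift 416 chain d.2.1 &&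
    (List.range 416).all (fun i => Nat.beq (apN d.2.1 d.1 i) i) &&
    !((List.range 416).all fun i => Nat.beq (ap d.2.1 i) i)) = true ∧ cycCodes.map Prod.fst = [7, 13] := by decide +kernel

end CfsgLib.G24Mult
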