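/-
The multiplier of G2(4) has order two.
-/
import Cfsg.Agent.Lib.G24Mult.Cover
import Cfsg.Agent.Lib.G24Mult.SylowChecks
import Cfsg.Agent.Lib.StemSylow.CollectPOne
import Cfsg.Agent.Lib.PermChain.Schur

set_option autoImplicit false
set_option maxRecDepth 30000
set_option linter.unusedSectionVars false
set_option linter.style.haveILetI false

namespace CfsgLib.G24Mult

open Equiv Subgroup CfsgPC CfsgLib.StemSylow Cfsg.Lie

universe u

attribute [local irreducible] chain gens gcTwo tcTwo gcThree tcThree gcFive tcFive subTwo subThree subFive cycCodes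
  baseTwo baseThree baseFive certTwo

theorem sub_table {sub : List Level} {cs : List ℕ} {lens : List ℕ} {k : ℕ} (hl : lens.length = k)
    (hs : shapeOK 416 sub cs = true) (hlens : (sub.map fun L => L.tr.length) = lens)
    (he : ((List.range k).all fun j => entriesOK 416 sub cs j 0 (lens.getD j 0)) = true) : TableOK 416 sub cs := by
  refine tableOK_of_checks hs fun j hj i hi => ?_
  have hjk : j < k := by rw [← hl, ← hlens, List.length_map]; exact hj
  refine of_entriesOK (List.all_eq_true.mp he j (List.mem_range.mpr hjk)) (Nat.zero_le _) ?_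
  rw [← hlens, List.getD_eq_getElem _ _ (by simpa using hj), List.getElem_map]
  rwa [List.getD_eq_getElem _ _ hj] at hi

/-- A number killing `z` with index prime to it recovers `z` from its power. -/
theorem mem_of_coprime {Γ : Type u} [Group Γ] {H : Subgroup Γ} {z : Γ} {k q : ℕ} (hq : z ^ q = 1) (hco : k.Coprime q)
    (h : z ^ k ∈ H) : z ∈ H := by
  have e := Nat.gcd_eq_gcd_ab k q
  rw [hco.gcd_eq_one] at e
  have : z = (z ^ k) ^ Nat.gcdA k q := by
    conv_lhs => rw [← zpow_one z, show (1 : ℤ) = ((1 : ℕ) : ℤ) from rfl, e, zpow_add, zpow_mul, zpow_mul,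
      zpow_natCast, zpow_natCast, hq, one_zpow, mul_one]
  rw [this]
  exact zpow_mem h _

theorem exp_four {Γ : Type u} [Group Γ] [Finite Γ] {σ : Γ →* SmallG} (hσ : Cfsg.IsStemExtension σ)
    (hexp : ∀ z ∈ σ.ker, z ^ 4 = 1) : ∃ w ∈ σ.ker, w ^ 2 = 1 ∧ σ.ker ≤ zpowers w := by
  classical
  obtain ⟨hp, hcard, -⟩ := small_model
  obtain ⟨hC, hbp, hn, hq, hr⟩ := certTwo_ok
  obtain ⟨hs, hlens, hsz, hlen⟩ := subTwo_shape
  obtain ⟨g, t, ht, hf, hle⟩ := SylowData.exists_elems ⟨gcTwo, tcTwo, subTwo⟩ (by norm_num) small_table small_valid hp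
    (facts := baseTwo.facts) (N := 4096)
    ⟨memTwo.1, memTwo.2.1, memTwo.2.2, sub_table rfl hs hlens subTwo_entries, hsz⟩
  simp only at hle
  rw [hlen] at hle
  have hb : certTwo.base = baseTwo := by with_unfolding_all rfl
  obtain ⟨w, hw, hw2, hall⟩ := CollectPOne.pow_index_mem_zpowers hσ certTwo (by rw [hq]; exact hexp) hC g t ht
    (by rw [hb]; exact hf) (by rw [hb, hbp, hn]; exact hle)
  rw [hr] at hw2
  rw [hb, hn] at hall
  refine ⟨w, hw, hw2, fun z hz => ?_⟩
  have hmul := (closure (g '' {k | k < 12})).card_mul_index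
  rw [hcard] at hmul
  have hupp : Nat.card (closure (g '' {k | k < 12})) ≤ 4096 := by
    have hone : ∀ N f, CollectMod.zz (fun _ => (1 : SmallG)) N f = 1 := by
      intro N f
      induction N with
      | zero => rfl
      | succ k ih => simp [CollectMod.zz, ih]
    have := CollectPOne.card_lift certTwo (Gl := g) (Tl := t) (E := fun _ => (1 : SmallG))
      (fun _ _ => Commute.one_left _) (fun _ => one_pow _) ht (fun m => by
        show _ = _ * (1 : SmallG)
        rw [mul_one, hb]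
        by_cases hm : m < baseTwo.facts.length
        · exact hf m hm
        · rw [show baseTwo.fact m = (0, [], []) from List.getD_eq_default _ _ (not_lt.mp hm)]
          simp [Collect.ev_nil, ht]) hC
    simp only [hone, mul_one, orderOf_one, hb, hn, hbp] at this
    refine le_trans (Nat.card_mono (Set.toFinite _) ?_) this
    exact closure_mono Set.subset_union_left
  rw [le_antisymm hupp hle] at hmul
  have hi : (closure (g '' {k | k < 12})).index = 61425 := by omega
  refine mem_of_coprime (hexp z hz) (k := 61425) (by norm_num) ?_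
  rw [← hi]
  exact hall z hz

theorem ker_small {Γ : Type u} [Group Γ] [Finite Γ] {σ : Γ →* SmallG} (hσ : Cfsg.IsStemExtension σ) :
    ∃ w ∈ σ.ker, w ^ 2 = 1 ∧ σ.ker ≤ zpowers w := by
  classical
  obtain ⟨hp, hcard, -⟩ := small_model
  have k3 : ∀ w ∈ σ.ker, w ^ 3 = 1 → w = 1 := fun w hw h3 => by
    obtain ⟨hs, hlens, hsz, hlen⟩ := subThree_shape
    obtain ⟨hC, hbp, hn⟩ := certThree_ok
    exact no_torsion_of_cert (by norm_num) small_table small_valid hp baseThree hC (hbp ▸ Nat.prime_three)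
      ⟨gcThree, tcThree, subThree⟩ (hlen.trans hn.symm)
      ⟨memThree.1, memThree.2.1, memThree.2.2, sub_table rfl hs hlens subThree_entries, by rw [hbp, hn]; exact hsz⟩
      (by rw [hcard, hbp, hn]; norm_num) hσ hw (by rw [hbp]; exact h3)
  have k5 : ∀ w ∈ σ.ker, w ^ 5 = 1 → w = 1 := fun w hw h5 => by
    obtain ⟨hs, hlens, hsz, hlen⟩ := subFive_shape
    obtain ⟨hC, hbp, hn⟩ := certFive_ok
    exact no_torsion_of_cert (by norm_num) small_table small_valid hp baseFive hC (hbp ▸ (by norm_num : Nat.Prime 5))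
      ⟨gcFive, tcFive, subFive⟩ (hlen.trans hn.symm)
      ⟨memFive.1, memFive.2.1, memFive.2.2, sub_table rfl hs hlens subFive_entries, by rw [hbp, hn]; exact hsz⟩
      (by rw [hcard, hbp, hn]; norm_num) hσ hw (by rw [hbp]; exact h5)
  have kc : ∀ p ∈ [7, 13], ∀ w ∈ σ.ker, w ^ p = 1 → w = 1 := fun p hp w hw hwp => by
    obtain ⟨hall, hmap⟩ := cyc_ok
    rw [← hmap] at hp
    obtain ⟨d, hd, rfl⟩ := List.mem_map.mp hp
    have hd7 : d.1 = 7 ∨ d.1 = 13 := by
      have : d.1 ∈ cycCodes.map Prod.fst := List.mem_map_of_mem hd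
      simpa [hmap] using this
    have h := List.all_eq_true.mp hall d hd
    simp only [Bool.and_eq_true, Bool.not_eq_true', List.all_eq_true, List.mem_range] at h
    obtain ⟨⟨⟨hp', hs⟩, hpow⟩, hne⟩ := h
    have hr := decP_rep hp'
    let g : SmallG := ⟨_, mem_of_sift (by norm_num) small_table small_valid _ _ hr hs⟩
    refine no_torsion_cyclic (by rcases hd7 with e | e <;> rw [e] <;> norm_num) (g := g)
      (Subtype.ext (Equiv.ext fun i => Fin.ext ?_)) (fun e => ?_) ?_ hσ hw hwp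
    · rw [SubgroupClass.coe_pow, ← rep_apN hr, Nat.eq_of_beq_eq_true (hpow i i.2)]
      rfl
    · have e' : decP 416 d.2.1 = 1 := congrArg Subtype.val e
      rw [← Bool.not_eq_true, List.all_eq_true] at hne
      refine hne fun i hi => ?_
      have := hr ⟨i, List.mem_range.mp hi⟩
      rw [e'] at this
      rw [show ap d.2.1 i = i from this, Nat.beq_refl]
    · rw [hcard]; rcases hd7 with e | e <;> rw [e] <;> norm_num
  have kill : ∀ {p : ℕ}, (∀ w ∈ σ.ker, w ^ p = 1 → w = 1) → ∀ (k m : ℕ), ∀ z ∈ σ.ker,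
      z ^ (p ^ k * m) = 1 → z ^ m = 1 := by
    intro p h k
    induction k with
    | zero => intro m z _ hz; simpa using hz
    | succ k ih =>
      intro m z hzH hz
      refine h _ (pow_mem hzH m) ?_
      rw [← pow_mul, mul_comm]
      exact ih (p * m) z hzH (by rw [← hz]; congr 1; ring)
  have hbig : ∀ z ∈ σ.ker, z ^ 4096 = 1 := by
    intro z hz
    have h0 : z ^ 251596800 = 1 := by
      have := CfsgLib.StSL.pow_index_eq_one_of_cyclic hσ (1 : SmallG) hz
      rwa [zpowers_one_eq_bot, index_bot, hcard] at this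
    refine kill (kc 13 (by simp)) 1 4096 z hz (kill (kc 7 (by simp)) 1 _ z hz
      (kill k5 2 _ z hz (kill k3 3 _ z hz ?_)))
    rw [← h0]; norm_num
  obtain ⟨z₀, hz₀, ⟨y₀, hy₀, he₀⟩, hall⟩ := CollectMod.mod_pow hσ 4 2 (fun Δ _ _ τ hτ hexp => exp_four hτ hexp)
  have hc : ∀ x, x ∈ σ.ker → ∀ g, Commute x g := fun x hx g => (mem_center_iff.mp (hσ.2.1 hx) g).symm
  have htwo : ∀ z ∈ σ.ker, ∃ v ∈ σ.ker, z ^ 2 = v ^ 4 := by
    intro z hz
    obtain ⟨k, y, hy, rfl⟩ := hall z hz
    refine ⟨y₀ ^ k * y ^ 2, mul_mem (zpow_mem hy₀ k) (pow_mem hy 2), ?_⟩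
    rw [(hc _ (zpow_mem hz₀ k) _).mul_pow, (hc _ (zpow_mem hy₀ k) _).mul_pow, ← pow_mul, ← pow_mul]
    congr 1
    rw [← zpow_natCast (z₀ ^ k), ← zpow_natCast (y₀ ^ k), ← _root_.zpow_mul, ← _root_.zpow_mul, mul_comm k, mul_comm k,
      _root_.zpow_mul, _root_.zpow_mul, zpow_natCast, zpow_natCast, he₀]
  have hit : ∀ j : ℕ, ∀ z ∈ σ.ker, ∃ v ∈ σ.ker, z ^ 2 = v ^ 2 ^ (j + 2) := by
    intro j
    induction j with
    | zero => exact htwo
    | succ j ih =>
      intro z hz
      obtain ⟨v, hv, e⟩ := ih z hz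
      obtain ⟨x, hx, e'⟩ := htwo v hv
      refine ⟨x, hx, ?_⟩
      rw [e, show 2 ^ (j + 2) = 2 * 2 ^ (j + 1) by ring, pow_mul, e', ← pow_mul]
      congr 1
      ring
  have h2 : ∀ z ∈ σ.ker, z ^ 2 = 1 := by
    intro z hz
    obtain ⟨v, hv, e⟩ := hit 10 z hz
    rw [e]; exact hbig v hv
  refine ⟨z₀, hz₀, h2 _ hz₀, fun z hz => ?_⟩
  obtain ⟨k, y, hy, rfl⟩ := hall z hz
  rw [show (4 : ℕ) = 2 * 2 from rfl, pow_mul, h2 y hy, one_pow, mul_one]
  exact zpow_mem (mem_zpowers z₀) k

theorem multiplier {F : Type u} [Field F] [Fintype F] (hF : Fintype.card F = 4) :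
    Cfsg.HasCyclicSchurMultiplier ↥(chevG2.group F) 2 := by
  classical
  obtain ⟨r⟩ := CfsgLib.G24.exists_ringEquiv F hF
  obtain ⟨e1⟩ := CfsgLib.G24.group_equiv r
  obtain ⟨-, -, ⟨e2⟩⟩ := small_model
  let e : ↥(chevG2.group F) ≃* SmallG := e1.trans e2
  have hZ : Nat.card (Multiplicative (ZMod 2)) = 2 := by simp
  haveI : Fact (Nat.Prime 2) := ⟨Nat.prime_two⟩
  refine ⟨?_, fun Γ _ _ σ hσ => ?_⟩
  · obtain ⟨hfin, ⟨hs, hc, hd⟩, hk⟩ := cover_stem
    let d : ULift.{u} Cover ≃* Cover := MulEquiv.ulift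
    let τ : ULift.{u} Cover →* ↥(chevG2.group F) := e.symm.toMonoidHom.comp (proj.comp d.toMonoidHom)
    have hker : ∀ x, x ∈ τ.ker ↔ d x ∈ proj.ker := fun x =>
      ⟨fun h => MonoidHom.mem_ker.mpr (e.symm.injective ((MonoidHom.mem_ker.mp h).trans (map_one e.symm).symm)),
        fun h => MonoidHom.mem_ker.mpr ((congrArg e.symm (MonoidHom.mem_ker.mp h)).trans (map_one e.symm))⟩
    have hst : Cfsg.IsStemExtension τ := by
      refine ⟨e.symm.surjective.comp (hs.comp d.surjective), fun x hx => ?_, fun x hx => ?_⟩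
      · refine mem_center_iff.mpr fun y => d.injective ?_
        rw [map_mul, map_mul]
        exact mem_center_iff.mp (hc ((hker x).mp hx)) _
      · have hm := mem_map_of_mem d.symm.toMonoidHom (hd ((hker x).mp hx))
        rw [_root_.commutator_def, map_commutator, map_top_of_surjective _ d.symm.surjective] at hm
        simpa [_root_.commutator_def] using hm
    refine ⟨_, inferInstance, inferInstance, τ, hst, ⟨mulEquivOfPrimeCardEq ?_ hZ⟩⟩
    refine Eq.trans ?_ hk
    exact Nat.card_congr (d.toEquiv.subtypeEquiv hker)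
  · obtain ⟨w, hw, hw2, hle⟩ := ker_small (σ := e.toMonoidHom.comp σ)
      ⟨e.surjective.comp hσ.1, fun x hx => hσ.2.1 (by simpa using hx), fun x hx => hσ.2.2 (by simpa using hx)⟩
    have hw' : w ∈ σ.ker := by simpa using hw
    have hle' : σ.ker ≤ zpowers w := fun x hx => hle (by simpa using hx)
    by_cases h1 : w = 1
    · refine ⟨1, fun x => ⟨1, ?_⟩⟩
      have := hle' x.2
      rw [h1, Subgroup.zpowers_one_eq_bot, Subgroup.mem_bot] at this
      exact Subtype.ext this.symm
    · have hc : Nat.card σ.ker = 2 := by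
        rw [le_antisymm hle' (Subgroup.zpowers_le.mpr hw'), Nat.card_zpowers, orderOf_eq_prime hw2 h1]
      exact ⟨(mulEquivOfPrimeCardEq hZ hc).toMonoidHom, (mulEquivOfPrimeCardEq hZ hc).surjective⟩

end CfsgLib.G24Mult
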